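import Groth.Agent.Ega2.H296.PnGen
import Groth.Agent.Ega2.H18.PnExist
import Groth.Agent.Ega2.H295.PnExt
import Groth.Agent.ProjDeg.K657.NormalSec
import Groth.Agent.FormalB.ProjScalar
import Mathlib.LinearAlgebra.Matrix.NonsingularInverse

/-!
# Linear forms as global sections of `O(1)` on projective space; morphisms given by matrices
-/

set_option autoImplicit false
universe u

open CategoryTheory CategoryTheory.Limits AlgebraicGeometry TopologicalSpace Opposite
open Groth.Agent.Fdesc.LocGen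

namespace K654.AutPn

section lin

variable {X : Scheme.{u}} {k : Type u} [CommRing k] (q : X ⟶ Spec (CommRingCat.of k)) {M : X.Modules}
  {n : ℕ}

/-- `∑ c_j s_j`. -/
noncomputable def lcg (s : Fin n → Γ(M, ⊤)) (c : Fin n → k) : Γ(M, ⊤) :=
  ∑ j, (ProjUP.toGlobal q (c j) : Γ(X, ⊤)) • s j

theorem app_lcg {N : X.Modules} (φ : M ⟶ N) (s : Fin n → Γ(M, ⊤)) (c : Fin n → k) :
    φ.app ⊤ (lcg q s c) = lcg q (fun j => φ.app ⊤ (s j)) c := by
  rw [lcg, lcg]
  refine (map_sum (φ.app ⊤).hom _ _).trans (Finset.sum_congr rfl fun j _ => ?_)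
  exact Scheme.Modules.Hom.app_smul φ _ _

theorem app_toGlobal {Y : Scheme.{u}} (g : Y ⟶ X) {q' : Y ⟶ Spec (CommRingCat.of k)} (hg : g ≫ q = q') (a : k) :
    g.app ⊤ (ProjUP.toGlobal q a) = ProjUP.toGlobal q' a := by
  subst hg
  change _ = ((g ≫ q).appTop.hom ((Scheme.ΓSpecIso (CommRingCat.of k)).inv.hom a))
  rw [Scheme.Hom.comp_appTop]
  rfl

theorem pullSec_lcg {Y : Scheme.{u}} (g : Y ⟶ X) {q' : Y ⟶ Spec (CommRingCat.of k)} (hg : g ≫ q = q')
    (s : Fin n → Γ(M, ⊤)) (c : Fin n → k) :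
    pullSec g (lcg q s c) = lcg (M := (Scheme.Modules.pullback g).obj M) q' (fun j => pullSec g (s j)) c := by
  rw [lcg, lcg]
  refine (map_sum (((Scheme.Modules.pullbackPushforwardAdjunction g).unit.app M).app ⊤).hom _ _).trans
    (Finset.sum_congr rfl fun j _ => ?_)
  refine (pullSec_smul g _ _).trans ?_
  rw [app_toGlobal q g hg]
  rfl

theorem lcg_lcg {m : ℕ} (s : Fin n → Γ(M, ⊤)) (c : Fin m → k) (A : Matrix (Fin m) (Fin n) k) :
    lcg q (fun i => lcg q s (A i)) c = lcg q s (Matrix.vecMul c A) := by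
  simp only [lcg, Finset.smul_sum, Matrix.vecMul, dotProduct, map_sum, Finset.sum_smul, smul_smul, map_mul]
  rw [Finset.sum_comm]

theorem lcg_single (s : Fin n → Γ(M, ⊤)) (i : Fin n) (a : k) :
    lcg q s (Pi.single i a) = (ProjUP.toGlobal q a : Γ(X, ⊤)) • s i := by
  rw [lcg, Finset.sum_eq_single i]
  · rw [Pi.single_eq_same]
  · intro j _ hj
    rw [Pi.single_eq_of_ne hj, map_zero, zero_smul]
  · intro h
    exact absurd (Finset.mem_univ i) h

theorem lcg_add (s : Fin n → Γ(M, ⊤)) (c d : Fin n → k) : lcg q s (c + d) = lcg q s c + lcg q s d := by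
  simp only [lcg, Pi.add_apply, map_add, add_smul, Finset.sum_add_distrib]

theorem lcg_zero (s : Fin n → Γ(M, ⊤)) : lcg q s 0 = 0 := by
  simp only [lcg, Pi.zero_apply, map_zero, zero_smul, Finset.sum_const_zero]

theorem lcg_sub (s : Fin n → Γ(M, ⊤)) (c d : Fin n → k) : lcg q s (c - d) = lcg q s c - lcg q s d := by
  simp only [lcg, Pi.sub_apply, map_sub, sub_smul, Finset.sum_sub_distrib]

end lin

section PnRing

variable {n : ℕ} {R : Type u} [CommRing R]

/-- `O(1)`. -/
noncomputable abbrev O1 (n : ℕ) (R : Type u) [CommRing R] : (CohB1.ProjSpace n R).Modules :=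
  Twist.twistProjSpace n R 1

/-- The coordinate `T_i`. -/
noncomputable abbrev T (n : ℕ) (R : Type u) [CommRing R] (i : Fin (n + 1)) : Γ(O1 n R, ⊤) := ProjUP.coord n R i

/-- The linear form with coefficients `c` as a global section of `O(1)`. -/
noncomputable abbrev lc (c : Fin (n + 1) → R) : Γ(O1 n R, ⊤) :=
  lcg (CohB1.ProjSpace.toSpec n R) (T n R) c

/-- The linear form with coefficients `c`. -/
noncomputable def lf (c : Fin (n + 1) → R) : CohB1.polyGrading n R 1 :=
  ∑ i, c i • (⟨MvPolynomial.X i, MvPolynomial.isHomogeneous_X R i⟩ : CohB1.polyGrading n R 1)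

theorem coe_lf (c : Fin (n + 1) → R) :
    (lf c : MvPolynomial (Fin (n + 1)) R) = ∑ i, c i • MvPolynomial.X i := by
  rw [lf, Submodule.coe_sum]
  rfl

/-- The global section given by a form. -/
noncomputable def gl {d : ℕ} (a : CohB1.polyGrading n R d) : Γ(Twist.twistProjSpace n R (d : ℤ), ⊤) :=
  Twist.globalOf (CohB1.polyGrading n R) a

theorem gl_add {d : ℕ} (a b : CohB1.polyGrading n R d) : gl (a + b) = gl a + gl b := by
  refine Subtype.ext (funext fun x => Subtype.ext ?_)
  change Localization.mk _ _ = Localization.mk _ _ + Localization.mk _ _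
  rw [Localization.add_mk_self]
  rfl

theorem gl_smul {d : ℕ} (c : R) (a : CohB1.polyGrading n R d) :
    gl (c • a) = (ProjUP.toGlobal (CohB1.ProjSpace.toSpec n R) c : Γ(CohB1.ProjSpace n R, ⊤)) • gl a := by
  refine Subtype.ext (funext fun x => Subtype.ext ?_)
  have h := Groth.Agent.FormalB.ProjScalar.toGlobal_val n R c (op ⊤) x.1 trivial
  refine Eq.trans ?_ (Groth.Agent.Ega2.TwistBasic.smulS_val (𝒜 := CohB1.polyGrading n R) d
    (ProjUP.toGlobal (CohB1.ProjSpace.toSpec n R) c) (gl a) x).symm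
  refine Eq.trans ?_ (congrArg (fun z => z * ((gl a).1 x).1) h).symm
  change Localization.mk (c • a.1) _ = _ * Localization.mk a.1 _
  rw [← Algebra.smul_def, Localization.smul_mk]

theorem gl_zero {d : ℕ} : gl (0 : CohB1.polyGrading n R d) = 0 := by
  have h := gl_add (0 : CohB1.polyGrading n R d) 0
  rw [add_zero] at h
  exact left_eq_add.mp h

theorem gl_sum {d : ℕ} {ι : Type*} (s : Finset ι) (a : ι → CohB1.polyGrading n R d) :
    gl (∑ i ∈ s, a i) = ∑ i ∈ s, gl (a i) := by
  classical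
  induction s using Finset.induction_on with
  | empty => rw [Finset.sum_empty, Finset.sum_empty, gl_zero]
  | insert i s hi ih => rw [Finset.sum_insert hi, Finset.sum_insert hi, gl_add, ih]

theorem gl_lf (c : Fin (n + 1) → R) : (gl (lf c) : Γ(O1 n R, ⊤)) = lc c := by
  have h := gl_sum Finset.univ (fun i => c i •
    (⟨MvPolynomial.X i, MvPolynomial.isHomogeneous_X R i⟩ : CohB1.polyGrading n R 1))
  refine h.trans (Finset.sum_congr rfl fun i _ => ?_)
  exact gl_smul _ _

theorem lf_injective : Function.Injective (lf : (Fin (n + 1) → R) → CohB1.polyGrading n R 1) := by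
  intro c d h
  have h1 := congrArg (Subtype.val) h
  rw [coe_lf, coe_lf] at h1
  funext j
  have h2 := congrArg (MvPolynomial.coeff (Finsupp.single j 1)) h1
  classical
  simpa [MvPolynomial.coeff_sum, MvPolynomial.coeff_X, Finsupp.single_left_inj] using h2

theorem lf_surjective : Function.Surjective (lf : (Fin (n + 1) → R) → CohB1.polyGrading n R 1) := by
  rintro ⟨a, ha⟩
  have h : a ∈ Submodule.span R (Set.range (MvPolynomial.X : Fin (n + 1) → MvPolynomial (Fin (n + 1)) R)) := by
    rw [← MvPolynomial.homogeneousSubmodule_one_eq_span_X]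
    exact ha
  obtain ⟨c, hc⟩ := (Submodule.mem_span_range_iff_exists_fun R).mp h
  exact ⟨c, Subtype.ext ((coe_lf c).trans hc)⟩

theorem generatedBy_coord : ProjUP.GeneratedBy (O1 n R) (T n R) := by
  intro x
  have h0 : x ∈ ⨆ i, Groth.Agent.CurvesC.ProjSpaceBasic.Dp n R i := by
    rw [Groth.Agent.CurvesC.ProjSpaceBasic.iSup_Dp]
    trivial
  obtain ⟨i, hi⟩ := Opens.mem_iSup.1 h0
  have h1 := Groth.Agent.Ega2.H296.PnGen.isGen_res_coord (R := R) i
  have h2 := Groth.Agent.Ega1.GlobGenPt.span_germ_eq_top h1 x hi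
  rw [eq_top_iff, ← h2, Submodule.span_le]
  rintro _ rfl
  rw [Groth.Agent.Ega1.GlobGenPt.germ_res]
  exact Submodule.subset_span ⟨i, rfl⟩

theorem germ_lcg_mem {X : Scheme.{u}} (q : X ⟶ Spec (CommRingCat.of R)) {M : X.Modules} {m : ℕ}
    (s : Fin m → Γ(M, ⊤)) (c : Fin m → R) (x : X) :
    M.presheaf.germ ⊤ x trivial (lcg q s c) ∈ Submodule.span (X.presheaf.stalk x)
      (Set.range fun i => (M.presheaf.germ ⊤ x trivial).hom (s i)) := by
  rw [lcg]
  refine (map_sum (M.presheaf.germ ⊤ x trivial).hom _ _).symm ▸ Submodule.sum_mem _ fun j _ => ?_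
  rw [Groth.Agent.CycB.ModStalk.germ_smul]
  exact Submodule.smul_mem _ _ (Submodule.subset_span ⟨j, rfl⟩)

theorem T_eq_lcg {M N : Matrix (Fin (n + 1)) (Fin (n + 1)) R} (h : N * M = 1) (j : Fin (n + 1)) :
    T n R j = lcg (CohB1.ProjSpace.toSpec n R) (fun i => lc (M i)) (N j) := by
  have h1 := lcg_lcg (CohB1.ProjSpace.toSpec n R) (T n R) (N j) M
  refine Eq.trans ?_ h1.symm
  rw [← Matrix.mul_apply_eq_vecMul, h]
  have h2 := lcg_single (CohB1.ProjSpace.toSpec n R) (T n R) j 1
  rw [map_one, one_smul] at h2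
  refine h2.symm.trans (congrArg _ ?_)
  funext i
  rw [Matrix.one_eq_pi_single]

theorem generatedBy_lc {M N : Matrix (Fin (n + 1)) (Fin (n + 1)) R} (h : N * M = 1) :
    ProjUP.GeneratedBy (O1 n R) (fun i => lc (M i)) := by
  intro x
  rw [eq_top_iff, ← generatedBy_coord x, Submodule.span_le]
  rintro _ ⟨j, rfl⟩
  dsimp only
  rw [T_eq_lcg h j]
  exact germ_lcg_mem _ _ _ x

end PnRing

section PnField

variable {n : ℕ} {k : Type u} [Field k]

theorem gl_bijective (d : ℕ) : Function.Bijective (gl : CohB1.polyGrading n k d → _) := by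
  refine K657.NormalSec.bijective (CohB1.polyGrading n k) (fun i => ?_) ?_ inferInstance d
  · change MvPolynomial.homogeneousSubmodule _ _ 1 * MvPolynomial.homogeneousSubmodule _ _ i =
      MvPolynomial.homogeneousSubmodule _ _ (i + 1)
    rw [← MvPolynomial.homogeneousSubmodule_one_pow _ i, ← MvPolynomial.homogeneousSubmodule_one_pow _ (i + 1),
      pow_succ']
  · intro h
    have h1 : (MvPolynomial.X 0 : MvPolynomial (Fin (n + 1)) k) ∈ CohB1.polyGrading n k 1 :=
      MvPolynomial.isHomogeneous_X k 0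
    rw [h] at h1
    exact MvPolynomial.X_ne_zero _ ((Submodule.mem_bot _).mp h1)

theorem lc_injective : Function.Injective (lc : (Fin (n + 1) → k) → _) := by
  intro c d h
  rw [← gl_lf, ← gl_lf] at h
  exact lf_injective ((gl_bijective 1).1 h)

theorem lc_surjective : Function.Surjective (lc : (Fin (n + 1) → k) → Γ(O1 n k, ⊤)) := by
  intro s
  obtain ⟨a, ha⟩ := (gl_bijective (n := n) (k := k) 1).2 s
  obtain ⟨c, rfl⟩ := lf_surjective a
  exact ⟨c, (gl_lf c).symm.trans ha⟩

end PnField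

end K654.AutPn
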