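import Groth.Agent.ProjAut.K654.PnSec
import Groth.Agent.S1697
import Groth.Agent.S0843
import Groth.Agent.S0844
import Groth.Agent.S0024
import Groth.Agent.ASBun.K792.EndLine
import Groth.Agent.S3581
import Groth.Agent.VarietyB.HHPush
import Groth.Agent.CurvesA.HHMap
import Groth.Agent.FormalB.TwistGen
import Groth.Agent.FormalA.PullbackQC
import Groth.Agent.CAlgX.K581.HomDim
import Mathlib.LinearAlgebra.Matrix.GeneralLinearGroup.Defs

/-!
# Automorphisms of projective space over a field are given by invertible matrices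
-/

set_option autoImplicit false
universe u

open CategoryTheory CategoryTheory.Limits AlgebraicGeometry TopologicalSpace Opposite
open Groth.Agent.Fdesc.LocGen

namespace K654.AutPn

section PnRing

variable {n : ℕ} {R : Type u} [CommRing R]

/-- `r` is given by the matrix `M`. -/
def Rep (r : CohB1.ProjSpace n R ⟶ CohB1.ProjSpace n R) (M : Matrix (Fin (n + 1)) (Fin (n + 1)) R) : Prop :=
  r ≫ CohB1.ProjSpace.toSpec n R = CohB1.ProjSpace.toSpec n R ∧
    ∃ τ : (Scheme.Modules.pullback r).obj (O1 n R) ≅ O1 n R,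
      ∀ i, τ.hom.app ⊤ (ProjUP.pullSec r (O1 n R) (T n R i)) = lc (M i)

theorem exists_rep {M N : Matrix (Fin (n + 1)) (Fin (n + 1)) R} (h : N * M = 1) : ∃ r, Rep r M := by
  obtain ⟨r, hr, τ, hτ⟩ := Groth.Agent.Ega2.H18.PnExist.exists_map n (CohB1.ProjSpace.toSpec n R) (O1 n R)
    (fun i => lc (M i)) (Groth.Agent.Ega2.H18.PnExist.iSup_genLocus_eq_top
      (Groth.Agent.Ega2.VeryAmpleAmple.isInvertible_twistProjSpace n R 1) _ (generatedBy_lc h))
  exact ⟨r, hr, τ, hτ⟩

theorem Rep.unique {r r' : CohB1.ProjSpace n R ⟶ CohB1.ProjSpace n R}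
    {M : Matrix (Fin (n + 1)) (Fin (n + 1)) R} (h : Rep r M) (h' : Rep r' M) : r = r' := by
  obtain ⟨hr, τ, hτ⟩ := h
  obtain ⟨hr', τ', hτ'⟩ := h'
  have key : ∀ i, (τ ≪≫ τ'.symm).hom.app ⊤ (ProjUP.pullSec r (O1 n R) (T n R i)) =
      ProjUP.pullSec r' (O1 n R) (T n R i) := by
    intro i
    have h3 : τ'.hom ≫ τ'.inv = 𝟙 _ := τ'.hom_inv_id
    have h4 := congr(($(h3).app ⊤) (ProjUP.pullSec r' (O1 n R) (T n R i)))
    refine Eq.trans ?_ h4
    exact congrArg (τ'.inv.app ⊤) ((hτ i).trans (hτ' i).symm)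
  exact Groth.Agent.Ega2.H295.PnExt.ext_of_hom r r' (hr.trans hr'.symm) (τ ≪≫ τ'.symm).hom key

theorem Rep.comp {f g : CohB1.ProjSpace n R ⟶ CohB1.ProjSpace n R}
    {M N : Matrix (Fin (n + 1)) (Fin (n + 1)) R} (hf : Rep f M) (hg : Rep g N) : Rep (g ≫ f) (M * N) := by
  obtain ⟨hf, τ, hτ⟩ := hf
  obtain ⟨hg, σ, hσ⟩ := hg
  refine ⟨by rw [Category.assoc, hf, hg], (Scheme.Modules.pullbackComp g f).symm.app (O1 n R) ≪≫
    (Scheme.Modules.pullback g).mapIso τ ≪≫ σ, fun i => ?_⟩
  have h1 := pullSec_comp g f (M := O1 n R) (U := ⊤) (T n R i)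
  have h2 := pullback_map_pullSec g τ.hom (U := ⊤) (pullSec f (T n R i))
  have h3 : (τ.hom.app ⊤ (pullSec f (T n R i)) : Γ(O1 n R, ⊤)) = lc (M i) := hτ i
  have h4 := pullSec_lcg (CohB1.ProjSpace.toSpec n R) g hg (T n R) (M i)
  have h5 := app_lcg (CohB1.ProjSpace.toSpec n R) σ.hom (fun j => pullSec g (T n R j)) (M i)
  have h6 : (fun j => (σ.hom.app ⊤ (pullSec g (T n R j)) : Γ(O1 n R, ⊤))) = fun j => lc (N j) :=
    funext fun j => hσ j
  have h7 := lcg_lcg (CohB1.ProjSpace.toSpec n R) (T n R) (M i) N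
  have h8 := congrArg (fun z => σ.hom.app ⊤ (((Scheme.Modules.pullback g).map τ.hom).app ⊤ z)) h1
  refine Eq.trans h8 ?_
  refine Eq.trans (congrArg (σ.hom.app ⊤) h2) ?_
  refine Eq.trans (congrArg (fun z => σ.hom.app ⊤ (pullSec g (M := O1 n R) (U := ⊤) z)) h3) ?_
  refine Eq.trans (congrArg (σ.hom.app ⊤) h4) ?_
  refine h5.trans ?_
  refine Eq.trans (congrArg (fun z => lcg (CohB1.ProjSpace.toSpec n R) z (M i)) h6) ?_
  exact h7

theorem pullSec_id' {Y : Scheme.{u}} {N : Y.Modules} {U : Y.Opens} (m : Γ(N, U)) :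
    ((Scheme.Modules.pullbackId Y).hom.app N).app U (pullSec (𝟙 Y) m) = m := by
  have h := unit_conjugateEquiv .id (Scheme.Modules.pullbackPushforwardAdjunction (𝟙 Y))
    (Scheme.Modules.pullbackId Y).hom N
  rw [Scheme.Modules.conjugateEquiv_pullbackId_hom] at h
  exact congr(($(h).app U) m).symm

theorem pullSec_id_inv {Y : Scheme.{u}} {N : Y.Modules} {U : Y.Opens} (m : Γ(N, U)) :
    ((Scheme.Modules.pullbackId Y).inv.app N).app U m = pullSec (𝟙 Y) m := by
  have h3 : (Scheme.Modules.pullbackId Y).hom.app N ≫ (Scheme.Modules.pullbackId Y).inv.app N = 𝟙 _ := by simp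
  have h4 := congr(($(h3).app U) (pullSec (𝟙 Y) m))
  refine Eq.trans ?_ h4
  exact congrArg (((Scheme.Modules.pullbackId Y).inv.app N).app U) (pullSec_id' m).symm

theorem smulModΓ_app_top {X : Scheme.{u}} (L : X.Modules) (r : Γ(X, ⊤)) (s : Γ(L, ⊤)) :
    (Formal.smulModΓ L r).app ⊤ s = r • s := by
  have h : Coh.resTop X (op ⊤) r = r := by
    change (X.presheaf.map _).hom r = r
    rw [show (homOfLE (le_top : (⊤ : X.Opens) ≤ ⊤)).op = 𝟙 _ from rfl, X.presheaf.map_id]
    rfl
  exact congrArg (fun z : Γ(X, ⊤) => z • s) h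

/-- A morphism given by an invertible scalar matrix is the identity. -/
theorem Rep.eq_id {r : CohB1.ProjSpace n R ⟶ CohB1.ProjSpace n R} {c d : R} (hcd : d * c = 1)
    (h : Rep r (Matrix.scalar (Fin (n + 1)) c)) : r = 𝟙 _ := by
  obtain ⟨hr, τ, hτ⟩ := h
  have key : ∀ i, (τ.hom ≫ Formal.smulModΓ (O1 n R) (ProjUP.toGlobal (CohB1.ProjSpace.toSpec n R) d) ≫
      (Scheme.Modules.pullbackId (CohB1.ProjSpace n R)).inv.app (O1 n R)).app ⊤
        (ProjUP.pullSec r (O1 n R) (T n R i)) = ProjUP.pullSec (𝟙 _) (O1 n R) (T n R i) := by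
    intro i
    have h1 : (Matrix.scalar (Fin (n + 1)) c) i = Pi.single i c := Matrix.row_diagonal _ i
    have h2 : lc ((Matrix.scalar (Fin (n + 1)) c) i) =
        (ProjUP.toGlobal (CohB1.ProjSpace.toSpec n R) c : Γ(CohB1.ProjSpace n R, ⊤)) • T n R i := by
      rw [h1]
      exact lcg_single _ _ i c
    have h3 : (Formal.smulModΓ (O1 n R) (ProjUP.toGlobal (CohB1.ProjSpace.toSpec n R) d)).app ⊤
        (lc ((Matrix.scalar (Fin (n + 1)) c) i)) = T n R i := by
      refine (smulModΓ_app_top _ _ _).trans ?_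
      rw [h2, smul_smul, ← map_mul, hcd, map_one, one_smul]
    refine Eq.trans ?_ (pullSec_id_inv (N := O1 n R) (U := ⊤) (T n R i))
    refine congrArg (((Scheme.Modules.pullbackId (CohB1.ProjSpace n R)).inv.app (O1 n R)).app ⊤) ?_
    exact (congrArg ((Formal.smulModΓ (O1 n R) (ProjUP.toGlobal (CohB1.ProjSpace.toSpec n R) d)).app ⊤)
      (hτ i)).trans h3
  exact Groth.Agent.Ega2.H295.PnExt.ext_of_hom r (𝟙 _) (hr.trans (Category.id_comp _).symm) _ key

theorem exists_toGlobal (r : Γ(CohB1.ProjSpace n R, ⊤)) :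
    ∃ c : R, r = ProjUP.toGlobal (CohB1.ProjSpace.toSpec n R) c := by
  have := Groth.Agent.S0024.result n R
  obtain ⟨y, hy⟩ := (ConcreteCategory.bijective_of_isIso (CohB1.ProjSpace.toSpec n R).appTop).2 r
  obtain ⟨c, hc⟩ := (ConcreteCategory.bijective_of_isIso (Scheme.ΓSpecIso (CommRingCat.of R)).inv).2 y
  exact ⟨c, by rw [← hy, ← hc]; rfl⟩

end PnRing

section PnField

variable {n : ℕ} {k : Type u} [Field k]

/-- If the identity is given by the matrix `M`, then `M` is scalar. -/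
theorem Rep.eq_scalar {M : Matrix (Fin (n + 1)) (Fin (n + 1)) k} (h : Rep (𝟙 (CohB1.ProjSpace n k)) M) :
    ∃ c : k, M = Matrix.scalar (Fin (n + 1)) c := by
  obtain ⟨-, τ, hτ⟩ := h
  obtain ⟨r, hr⟩ := K792.EndLine.exists_eq_smul
    (Groth.Agent.Ega2.VeryAmpleAmple.isInvertible_twistProjSpace n k 1)
    ((Scheme.Modules.pullbackId (CohB1.ProjSpace n k)).inv.app (O1 n k) ≫ τ.hom)
  obtain ⟨c, rfl⟩ := exists_toGlobal r
  refine ⟨c, funext fun i => ?_⟩
  have h1 : (Matrix.scalar (Fin (n + 1)) c) i = Pi.single i c := Matrix.row_diagonal _ i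
  refine Eq.trans ?_ h1.symm
  apply lc_injective
  refine ((hτ i).symm.trans ?_).trans (lcg_single _ _ i c).symm
  have h2 := congr(($(hr).app ⊤) (T n k i))
  refine Eq.trans ?_ (h2.trans (smulModΓ_app_top _ _ _))
  exact congrArg (τ.hom.app ⊤) (pullSec_id_inv (N := O1 n k) (U := ⊤) (T n k i)).symm

/-- The morphism given by an invertible matrix. -/
noncomputable def rr (M : Matrix.GeneralLinearGroup (Fin (n + 1)) k) :
    CohB1.ProjSpace n k ⟶ CohB1.ProjSpace n k :=
  (exists_rep (M := M.1) (N := M.2) M.inv_mul).choose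

theorem rep_rr (M : Matrix.GeneralLinearGroup (Fin (n + 1)) k) : Rep (rr M) M.1 :=
  (exists_rep (M := M.1) (N := M.2) M.inv_mul).choose_spec

theorem Rep.eq_one {r : CohB1.ProjSpace n k ⟶ CohB1.ProjSpace n k} (h : Rep r 1) : r = 𝟙 _ :=
  Rep.eq_id (c := 1) (d := 1) (one_mul 1) (by rwa [map_one])

theorem rr_mul (M N : Matrix.GeneralLinearGroup (Fin (n + 1)) k) : rr (M * N) = rr N ≫ rr M :=
  (rep_rr (M * N)).unique ((rep_rr M).comp (rep_rr N))

theorem rr_one : rr (1 : Matrix.GeneralLinearGroup (Fin (n + 1)) k) = 𝟙 _ :=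
  (rep_rr 1).eq_one

/-- The automorphism given by an invertible matrix. -/
noncomputable def aut (M : Matrix.GeneralLinearGroup (Fin (n + 1)) k) :
    Aut (Over.mk (CohB1.ProjSpace.toSpec n k)) where
  hom := Over.homMk (rr M) (rep_rr M).1
  inv := Over.homMk (rr M⁻¹) (rep_rr M⁻¹).1
  hom_inv_id := by
    ext1
    change rr M ≫ rr M⁻¹ = 𝟙 _
    rw [← rr_mul, inv_mul_cancel, rr_one]
  inv_hom_id := by
    ext1
    change rr M⁻¹ ≫ rr M = 𝟙 _
    rw [← rr_mul, mul_inv_cancel, rr_one]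

/-- The group homomorphism. -/
noncomputable def autHom : Matrix.GeneralLinearGroup (Fin (n + 1)) k →* Aut (Over.mk (CohB1.ProjSpace.toSpec n k)) where
  toFun := aut
  map_one' := by
    ext1
    ext1
    exact rr_one
  map_mul' M N := by
    ext1
    ext1
    exact rr_mul M N

theorem ker_autHom : (autHom (n := n) (k := k)).ker =
    (Units.map (Matrix.scalar (Fin (n + 1)) : k →+* Matrix (Fin (n + 1)) (Fin (n + 1)) k).toMonoidHom).range := by
  ext M
  rw [MonoidHom.mem_ker, MonoidHom.mem_range]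
  constructor
  · intro h
    have h1 : rr M = 𝟙 _ := congrArg (fun z : Aut (Over.mk (CohB1.ProjSpace.toSpec n k)) => z.hom.left) h
    have h2 := rep_rr M
    rw [h1] at h2
    obtain ⟨c, hc⟩ := h2.eq_scalar
    have hc0 : c ≠ 0 := by
      rintro rfl
      have := M.isUnit
      rw [map_zero] at hc
      rw [hc] at this
      exact not_isUnit_zero this
    exact ⟨Units.mk0 c hc0, Units.ext hc.symm⟩
  · rintro ⟨c, rfl⟩
    ext1
    ext1
    refine Rep.eq_id (c := c.1) (d := c⁻¹.1) c.inv_mul ?_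
    exact rep_rr _

end PnField

section Surj

variable {n : ℕ} {k : Type u} [Field k]

lemma isEquivalence_pushforward {X Y : Scheme.{u}} (f : X ⟶ Y) [IsIso f] :
    (Scheme.Modules.pushforward f).IsEquivalence := by
  let e : X.Modules ≌ Y.Modules :=
    CategoryTheory.Equivalence.mk (Scheme.Modules.pushforward f) (Scheme.Modules.pushforward (inv f))
      ((Scheme.Modules.pushforwardId X).symm ≪≫
        Scheme.Modules.pushforwardCongr (IsIso.hom_inv_id f).symm ≪≫
        (Scheme.Modules.pushforwardComp f (inv f)).symm)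
      ((Scheme.Modules.pushforwardComp (inv f) f) ≪≫
        Scheme.Modules.pushforwardCongr (IsIso.inv_hom_id f) ≪≫ Scheme.Modules.pushforwardId Y)
  exact inferInstanceAs e.functor.IsEquivalence

lemma isIso_unit {X Y : Scheme.{u}} (f : X ⟶ Y) [IsIso f] (M : Y.Modules) :
    IsIso ((Scheme.Modules.pullbackPushforwardAdjunction f).unit.app M) := by
  have := isEquivalence_pushforward f
  have := (Scheme.Modules.pullbackPushforwardAdjunction f).isEquivalence_left_of_isEquivalence_right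
  infer_instance

lemma pullSec_injective {X Y : Scheme.{u}} (f : X ⟶ Y) [IsIso f] (M : Y.Modules) :
    Function.Injective (fun s : Γ(M, ⊤) => (pullSec f s : Γ((Scheme.Modules.pullback f).obj M, f ⁻¹ᵁ ⊤))) := by
  have := isIso_unit f M
  exact (ConcreteCategory.bijective_of_isIso
    (((Scheme.Modules.pullbackPushforwardAdjunction f).unit.app M).app ⊤)).1

theorem finrank_HH_iso {X Y : Scheme.{u}} [X.Over (Spec (CommRingCat.of k))] [Y.Over (Spec (CommRingCat.of k))]
    (f : X ⟶ Y) [IsIso f]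
    (hf : f ≫ (Y ↘ Spec (CommRingCat.of k)) = X ↘ Spec (CommRingCat.of k))
    (M : Y.Modules) (hM : Coh.IsQCoh M) (i : ℕ) :
    Module.finrank k (Coh.HH X ((Scheme.Modules.pullback f).obj M) i) =
      Module.finrank k (Coh.HH Y M i) := by
  have := isIso_unit f M
  have e := (asIso ((Scheme.Modules.pullbackPushforwardAdjunction f).unit.app M)).symm
  rw [← Groth.Agent.VarietyB.HHPush.finrank_HH_push f k hf _
    (Groth.Agent.FormalA.PullbackQC.isQCoh_pullback f _ hM) i]
  exact (Groth.Agent.CurvesA.HHMap.equivOver k e i).finrank_eq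

theorem finrank_twist_nat (d : ℕ) : Module.finrank k (Coh.HH (CohB1.ProjSpace n k)
    (Twist.twistProjSpace n k (d : ℤ)) 0) = (d + n).choose n := by
  obtain ⟨e⟩ := Groth.Agent.S0843.result k n d
  rw [e.finrank_eq, K581.HomDim.finrank_homogeneous]

theorem choose_ne {n d : ℕ} (hn : 1 ≤ n) (h : (d + n).choose n = n + 1) : d = 1 := by
  rcases d with _ | _ | d
  · rw [zero_add, Nat.choose_self] at h
    omega
  · rfl
  · exfalso
    have h1 : (2 + n).choose n ≤ (d + 1 + 1 + n).choose n := Nat.choose_le_choose n (by omega)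
    have h2 : (2 + n).choose n = (n + 2).choose 2 := by
      rw [add_comm, Nat.choose_symm_add]
    have h3 : (n + 1 + 1).choose (1 + 1) = (n + 1).choose 1 + (n + 1).choose (1 + 1) := Nat.choose_succ_succ _ _
    rw [Nat.choose_one_right] at h3
    have h4 : 0 < (n + 1).choose (1 + 1) := Nat.choose_pos (by omega)
    have h5 : (n + 2).choose 2 = (n + 1 + 1).choose (1 + 1) := rfl
    omega

theorem exists_iso_O1 (hn : 1 ≤ n) (g : CohB1.ProjSpace n k ⟶ CohB1.ProjSpace n k) [IsIso g]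
    (hg : g ≫ CohB1.ProjSpace.toSpec n k = CohB1.ProjSpace.toSpec n k) :
    Nonempty ((Scheme.Modules.pullback g).obj (O1 n k) ≅ O1 n k) := by
  obtain ⟨d, ⟨e⟩⟩ := Groth.Agent.S1697.result k n ((Scheme.Modules.pullback g).obj (O1 n k))
    (isInvertible_pullback g (Groth.Agent.Ega2.VeryAmpleAmple.isInvertible_twistProjSpace n k 1))
  have h1 := finrank_HH_iso g hg (O1 n k) (Groth.Agent.FormalB.TwistGen.isQCoh_twistProjSpace n k 1) 0
  have h2 := finrank_twist_nat (n := n) (k := k) 1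
  have h3 := (Groth.Agent.CurvesA.HHMap.equivOver k e 0).finrank_eq
  have h4 : Module.finrank k (Coh.HH (CohB1.ProjSpace n k) (Twist.twistProjSpace n k d) 0) = n + 1 := by
    rw [← h3, h1]
    refine h2.trans ?_
    rw [add_comm, Nat.choose_succ_self_right]
  rcases lt_or_ge d 0 with hd | hd
  · exfalso
    have := Groth.Agent.S0844.result k n d 0 (by omega) (by omega)
    rw [Module.finrank_zero_of_subsingleton] at h4
    omega
  · obtain ⟨m, rfl⟩ := Int.eq_ofNat_of_zero_le hd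
    have h5 := choose_ne hn ((finrank_twist_nat (n := n) (k := k) m).symm.trans h4)
    subst h5
    exact ⟨e⟩

theorem exists_rep_of_iso (hn : 1 ≤ n) (g : CohB1.ProjSpace n k ⟶ CohB1.ProjSpace n k) [IsIso g]
    (hg : g ≫ CohB1.ProjSpace.toSpec n k = CohB1.ProjSpace.toSpec n k) :
    ∃ M : Matrix (Fin (n + 1)) (Fin (n + 1)) k, IsUnit M ∧ Rep g M := by
  obtain ⟨τ⟩ := exists_iso_O1 hn g hg
  choose M hM using fun i => lc_surjective (n := n) (k := k) (τ.hom.app ⊤ (ProjUP.pullSec g (O1 n k) (T n k i)))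
  have hR : Rep g M := ⟨hg, τ, fun i => (hM i).symm⟩
  refine ⟨M, ?_, hR⟩
  rw [← Matrix.vecMul_injective_iff_isUnit]
  have key : ∀ c : Fin (n + 1) → k, lc (Matrix.vecMul c M) =
      τ.hom.app ⊤ (pullSec g (M := O1 n k) (U := ⊤) (lc c)) := by
    intro c
    have h1 := lcg_lcg (CohB1.ProjSpace.toSpec n k) (T n k) c M
    have h2 : (fun i => lcg (CohB1.ProjSpace.toSpec n k) (T n k) (M i)) =
      fun i => (τ.hom.app ⊤ (pullSec g (T n k i)) : Γ(O1 n k, ⊤)) := funext hM
    have h4 := pullSec_lcg (CohB1.ProjSpace.toSpec n k) g hg (T n k) c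
    have h5 := app_lcg (CohB1.ProjSpace.toSpec n k) τ.hom (fun j => pullSec g (T n k j)) c
    refine h1.symm.trans ?_
    refine Eq.trans (congrArg (fun z => lcg (CohB1.ProjSpace.toSpec n k) z c) h2) ?_
    refine h5.symm.trans ?_
    exact congrArg (τ.hom.app ⊤) h4.symm
  intro c c' h
  have h1 := (key c).symm.trans ((congrArg lc h).trans (key c'))
  have h2 := (ConcreteCategory.bijective_of_isIso (τ.hom.app ⊤)).1 h1
  exact lc_injective (pullSec_injective g (O1 n k) h2)

theorem surjective_autHom (hn : 1 ≤ n) : Function.Surjective (autHom (n := n) (k := k)) := by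
  intro f
  have hf : IsIso f.hom.left := inferInstanceAs (IsIso ((Over.forget _).map f.hom))
  have hw : f.hom.left ≫ CohB1.ProjSpace.toSpec n k = CohB1.ProjSpace.toSpec n k := Over.w f.hom
  obtain ⟨M, hM, hR⟩ := exists_rep_of_iso hn f.hom.left hw
  refine ⟨hM.unit, ?_⟩
  ext1
  ext1
  exact (rep_rr hM.unit).unique hR

end Surj

/-- Automorphisms of projective space. -/
theorem main (k : Type u) [Field k] (n : ℕ) :
    ∃ φ : Matrix.GeneralLinearGroup (Fin (n + 1)) k →* Aut (Over.mk (CohB1.ProjSpace.toSpec n k)),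
      Function.Surjective φ ∧
        φ.ker = (Units.map (Matrix.scalar (Fin (n + 1)) : k →+* Matrix (Fin (n + 1)) (Fin (n + 1)) k).toMonoidHom).range := by
  rcases Nat.eq_zero_or_pos n with rfl | hn
  · refine ⟨autHom, fun f => ⟨1, ?_⟩, ker_autHom⟩
    have h := Groth.Agent.S3581.result k
    ext1
    ext1
    rw [← cancel_mono (CohB1.ProjSpace.toSpec 0 k)]
    have h1 := Over.w (autHom (n := 0) (k := k) 1).hom
    have h2 := Over.w f.hom
    exact h1.trans h2.symm
  · exact ⟨autHom, surjective_autHom hn, ker_autHom⟩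

end K654.AutPn
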